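import Groth.Agent.PicLocLim.Main
import Groth.Agent.PicTangent.GroupLaw
import Mathlib.CategoryTheory.Limits.Constructions.Over.Connected

/-!
Base changes of limits of affine systems and classes on them.
-/

set_option autoImplicit false
set_option linter.unusedSectionVars false
set_option linter.style.haveILetI false
set_option backward.isDefEq.respectTransparency false
set_option backward.isDefEq.respectTransparency.types false
set_option maxHeartbeats 800000

universe u

open CategoryTheory CategoryTheory.Limits AlgebraicGeometry Opposite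

noncomputable section

namespace Groth.Agent.PicLfp

variable {X S : Scheme.{u}} (f : X ⟶ S)

theorem XTmap_fst {T T' : Over S} (g : T' ⟶ T) :
    PicF.XTmap f g ≫ pullback.fst f T.hom = pullback.fst f T'.hom :=
  (pullback.lift_fst _ _ _).trans (Category.comp_id _)

theorem XTmap_snd {T T' : Over S} (g : T' ⟶ T) :
    PicF.XTmap f g ≫ pullback.snd f T.hom = pullback.snd f T'.hom ≫ g.left :=
  pullback.lift_snd _ _ _

theorem XTmap_comp {T T' T'' : Over S} (h : T'' ⟶ T') (g : T' ⟶ T) :
    PicF.XTmap f (h ≫ g) = PicF.XTmap f h ≫ PicF.XTmap f g := by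
  refine pullback.hom_ext ?_ ?_
  · rw [Category.assoc, XTmap_fst, XTmap_fst, XTmap_fst]
  · rw [Category.assoc, XTmap_snd, XTmap_snd, ← Category.assoc (PicF.XTmap f h), XTmap_snd, Category.assoc,
      Over.comp_left]

theorem XTmap_id (T : Over S) : PicF.XTmap f (𝟙 T) = 𝟙 _ := by
  refine pullback.hom_ext ?_ ?_
  · exact (XTmap_fst f _).trans (Category.id_comp _).symm
  · exact (XTmap_snd f _).trans ((Category.comp_id _).trans (Category.id_comp _).symm)

theorem isPullback_XTmap {T T' : Over S} (g : T' ⟶ T) :
    IsPullback (PicF.XTmap f g) (pullback.snd f T'.hom) (pullback.snd f T.hom) g.left := by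
  refine IsPullback.of_right ?_ (XTmap_snd f g) (IsPullback.of_hasPullback f T.hom)
  rw [XTmap_fst, Over.w]
  exact IsPullback.of_hasPullback f T'.hom

variable {J : Type u} [SmallCategory J] (E : J ⥤ Over S)

/-- The base changes of `X` to a system. -/
def xtSys : J ⥤ Scheme.{u} where
  obj j := PicF.XT f (E.obj j)
  map g := PicF.XTmap f (E.map g)
  map_id j := by rw [E.map_id, XTmap_id]
  map_comp g h := by rw [E.map_comp, XTmap_comp]

/-- The projections. -/
def xtProj : xtSys f E ⟶ E ⋙ Over.forget S where
  app j := pullback.snd f (E.obj j).hom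
  naturality _ _ g := XTmap_snd f (E.map g)

/-- The cone of base changes. -/
def xtCone (c : Cone E) : Cone (xtSys f E) where
  pt := PicF.XT f c.pt
  π :=
    { app := fun j => PicF.XTmap f (c.π.app j)
      naturality := fun i j g => by
        show 𝟙 _ ≫ _ = PicF.XTmap f (c.π.app i) ≫ PicF.XTmap f (E.map g)
        rw [Category.id_comp, ← XTmap_comp, c.w] }

/-- The map to the original cone. -/
def xtHom (c : Cone E) :
    (Cone.postcompose (xtProj f E)).obj (xtCone f E c) ⟶ (Over.forget S).mapCone c where
  hom := pullback.snd f c.pt.hom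
  w j := (XTmap_snd f (c.π.app j)).symm

theorem isLimit_xtCone [IsCofiltered J] {c : Cone E} (hc : IsLimit ((Over.forget S).mapCone c)) :
    Nonempty (IsLimit (xtCone f E c)) := by
  haveI : IsConnected J := IsCofiltered.isConnected _
  exact ⟨isLimitOfIsPullbackOfIsConnected (xtProj f E) (xtCone f E c) ((Over.forget S).mapCone c) (xtHom f E c)
    (fun j => isPullback_XTmap f (c.π.app j)) hc⟩

variable {E} (i : J) {Q : Over S} (q : Q ⟶ E.obj i)

/-- The base change of a system along a map to one of its stages. -/
def bcSys (E : J ⥤ Over S) (i : J) {Q : Over S} (q : Q ⟶ E.obj i) : CategoryTheory.Over i ⥤ Over S :=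
  CategoryTheory.Over.post E ⋙ CategoryTheory.Over.pullback q ⋙ CategoryTheory.Over.forget Q

/-- The cone over the stage. -/
def stageCone (c : Cone E) : Cone (CategoryTheory.Over.post (X := i) E) where
  pt := CategoryTheory.Over.mk (c.π.app i)
  π :=
    { app := fun k => CategoryTheory.Over.homMk (c.π.app k.left) (c.w k.hom)
      naturality := fun k l g => by
        refine CategoryTheory.Over.OverMorphism.ext ?_
        show 𝟙 _ ≫ c.π.app l.left = c.π.app k.left ≫ E.map g.left
        rw [Category.id_comp, c.w] }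

/-- The base change of a cone. -/
def bcCone (c : Cone E) : Cone (bcSys E i q) :=
  (CategoryTheory.Over.pullback q ⋙ CategoryTheory.Over.forget Q).mapCone (stageCone i c)

theorem isLimit_bcCone [IsCofiltered J] {c : Cone E} (hc : IsLimit ((Over.forget S).mapCone c)) :
    Nonempty (IsLimit ((Over.forget S).mapCone (bcCone i q c))) := by
  haveI : IsConnected J := IsCofiltered.isConnected _
  haveI := IsCofiltered.isConnected (CategoryTheory.Over i)
  let hE : IsLimit c := isLimitOfReflects (Over.forget S) hc
  let hw : IsLimit (c.whisker (CategoryTheory.Over.forget i)) :=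
    (Functor.Initial.isLimitWhiskerEquiv (CategoryTheory.Over.forget i) c).symm hE
  let hs : IsLimit (stageCone i c) :=
    isLimitOfReflects (CategoryTheory.Over.forget (E.obj i)) (IsLimit.ofIsoLimit hw
      (Cone.ext (Iso.refl _) fun k => (Category.id_comp _).symm))
  exact ⟨isLimitOfPreserves (Over.forget S) (isLimitOfPreserves _ hs)⟩

variable [∀ {j k : J} (g : j ⟶ k), IsAffineHom (E.map g).left]

theorem isPullback_bc (k : CategoryTheory.Over i) :
    IsPullback (pullback.snd (E.map k.hom) q).left (pullback.fst (E.map k.hom) q).left q.left (E.map k.hom).left :=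
  ((IsPullback.of_hasPullback (E.map k.hom) q).flip.map (Over.forget S))

instance isAffineHom_bc_snd (k : CategoryTheory.Over i) :
    IsAffineHom (pullback.snd (E.map k.hom) q).left :=
  MorphismProperty.of_isPullback (isPullback_bc i q k).flip inferInstance

instance compactSpace_bc [CompactSpace Q.left] (k : CategoryTheory.Over i) :
    CompactSpace ((bcSys E i q).obj k).left :=
  QuasiCompact.compactSpace_of_compactSpace (pullback.snd (E.map k.hom) q).left

instance quasiSeparatedSpace_bc [QuasiSeparatedSpace Q.left] (k : CategoryTheory.Over i) :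
    QuasiSeparatedSpace ((bcSys E i q).obj k).left :=
  quasiSeparatedSpace_of_quasiSeparated (pullback.snd (E.map k.hom) q).left

instance isAffineHom_bc_map {k l : CategoryTheory.Over i} (g : k ⟶ l) : IsAffineHom ((bcSys E i q).map g).left := by
  haveI : IsAffineHom (((bcSys E i q).map g).left ≫ (pullback.snd (E.map l.hom) q).left) := by
    have e : ((bcSys E i q).map g).left ≫ (pullback.snd (E.map l.hom) q).left =
        (pullback.snd (E.map k.hom) q).left :=
      congrArg Over.Hom.left (pullback.lift_snd _ _ _)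
    rw [e]
    infer_instance
  exact MorphismProperty.of_postcomp @IsAffineHom (W' := @IsSeparated) _ (pullback.snd (E.map l.hom) q).left
    inferInstance inferInstance

section classes

variable {f} [QuasiCompact f] [QuasiSeparated f] [IsCofiltered J]
  {G : J ⥤ Over S} [∀ j, CompactSpace (G.obj j).left] [∀ j, QuasiSeparatedSpace (G.obj j).left]
  [∀ {j k : J} (g : j ⟶ k), IsAffineHom (G.map g).left]

/-- A class on the base change to a limit comes from a stage. -/
theorem exists_class {d : Cone G} (hd : IsLimit ((Over.forget S).mapCone d))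
    {c : PicF.Cl (PicF.XT f d.pt)} (hc : PicF.IsInvertibleCl c) :
    ∃ (j : J) (c' : PicF.Cl (PicF.XT f (G.obj j))), PicF.IsInvertibleCl c' ∧
      PicF.pullCl (PicF.XTmap f (d.π.app j)) c' = c := by
  obtain ⟨L, rfl, hL⟩ := hc
  haveI : ∀ {j k} (g : j ⟶ k), IsAffineHom ((xtSys f G).map g) := fun {j k} g =>
    MorphismProperty.of_isPullback (isPullback_XTmap f (G.map g)).flip inferInstance
  haveI : ∀ j, CompactSpace ((xtSys f G).obj j) := fun j =>
    QuasiCompact.compactSpace_of_compactSpace (pullback.snd f (G.obj j).hom)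
  haveI : ∀ j, QuasiSeparatedSpace ((xtSys f G).obj j) := fun j =>
    quasiSeparatedSpace_of_quasiSeparated (pullback.snd f (G.obj j).hom)
  obtain ⟨hx⟩ := isLimit_xtCone f G hd
  obtain ⟨j, M, hM, ⟨e⟩⟩ := LimPic.exists_invertible hx L hL
  exact ⟨j, PicF.cl M, ⟨M, rfl, hM⟩, H23.PicMul.cl_eq_iff.2 ⟨e⟩⟩

/-- Classes equal on the limit are equal at a stage. -/
theorem exists_class_eq {d : Cone G} (hd : IsLimit ((Over.forget S).mapCone d)) {j : J}
    {c c' : PicF.Cl (PicF.XT f (G.obj j))} (hc : PicF.IsInvertibleCl c) (hc' : PicF.IsInvertibleCl c')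
    (h : PicF.pullCl (PicF.XTmap f (d.π.app j)) c = PicF.pullCl (PicF.XTmap f (d.π.app j)) c') :
    ∃ k : CategoryTheory.Over j,
      PicF.pullCl (PicF.XTmap f (G.map k.hom)) c = PicF.pullCl (PicF.XTmap f (G.map k.hom)) c' := by
  obtain ⟨M, rfl, hM⟩ := hc
  obtain ⟨N, rfl, hN⟩ := hc'
  haveI : ∀ {j k} (g : j ⟶ k), IsAffineHom ((xtSys f G).map g) := fun {j k} g =>
    MorphismProperty.of_isPullback (isPullback_XTmap f (G.map g)).flip inferInstance
  haveI : ∀ j, CompactSpace ((xtSys f G).obj j) := fun j =>
    QuasiCompact.compactSpace_of_compactSpace (pullback.snd f (G.obj j).hom)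
  haveI : ∀ j, QuasiSeparatedSpace ((xtSys f G).obj j) := fun j =>
    quasiSeparatedSpace_of_quasiSeparated (pullback.snd f (G.obj j).hom)
  obtain ⟨hx⟩ := isLimit_xtCone f G hd
  obtain ⟨φ⟩ := H23.PicMul.cl_eq_iff.1 h
  obtain ⟨m, ⟨ψ⟩⟩ := LimPic.exists_iso hx (i := j) hM hN φ
  exact ⟨m, H23.PicMul.cl_eq_iff.2 ⟨ψ⟩⟩

end classes

end Groth.Agent.PicLfp
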